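import Groth.Agent.Lib.GeomReg.Local
import Mathlib.AlgebraicGeometry.Fiber
import Mathlib.AlgebraicGeometry.Morphisms.Flat

/-!
# Regular ring maps and fibres of morphisms of schemes
-/

set_option autoImplicit false
set_option linter.all false
set_option backward.isDefEq.respectTransparency false

universe u

open CategoryTheory Limits AlgebraicGeometry TensorProduct

namespace GrothLib.RegMor10

section algebra

variable {R : Type u} [CommRing R]

/-- Noetherian geometrically regular fibres do not depend on the model of the residue field. -/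
theorem transfer {k κ : Type u} [Field k] [Field κ] [Algebra R k] [Algebra R κ] (σ : k ≃ₐ[R] κ)
    {A : Type u} [CommRing A] [Algebra R A]
    (h : IsNoetherianRing (k ⊗[R] A) ∧ CAlg.IsGeometricallyRegular k (k ⊗[R] A)) :
    IsNoetherianRing (κ ⊗[R] A) ∧ CAlg.IsGeometricallyRegular κ (κ ⊗[R] A) := by
  refine ⟨?_, fun L _ algL hL => ?_⟩
  · haveI := h.1
    exact isNoetherianRing_of_ringEquiv (k ⊗[R] A)
      (Algebra.TensorProduct.congr σ (AlgEquiv.refl : A ≃ₐ[R] A)).toRingEquiv
  · letI : Algebra k L := ((algebraMap κ L).comp σ.toRingEquiv.toRingHom).toAlgebra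
    letI : Algebra R L := ((algebraMap κ L).comp (algebraMap R κ)).toAlgebra
    haveI : IsScalarTower R κ L := IsScalarTower.of_algebraMap_eq fun _ => rfl
    haveI : IsScalarTower R k L := IsScalarTower.of_algebraMap_eq fun r =>
      show algebraMap κ L (algebraMap R κ r) = algebraMap κ L (σ (algebraMap R k r)) by rw [σ.commutes]
    haveI : Module.Finite k L := by
      have hf : (algebraMap κ L).Finite := RingHom.finite_algebraMap.2 hL
      exact hf.comp (RingHom.Finite.of_surjective _ σ.surjective)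
    haveI := h.2 L inferInstance
    exact IsRegularRing.of_ringEquiv (R := L ⊗[k] (k ⊗[R] A))
      ((Algebra.TensorProduct.cancelBaseChange R k L L A).toRingEquiv.trans
        (Algebra.TensorProduct.cancelBaseChange R κ L L A).symm.toRingEquiv)

/-- Geometric regularity along an isomorphism of algebras. -/
theorem geomReg_congr {k : Type u} [Field k] {A B : Type u} [CommRing A] [CommRing B] [Algebra k A]
    [Algebra k B] (e : A ≃ₐ[k] B) (h : CAlg.IsGeometricallyRegular k A) :
    CAlg.IsGeometricallyRegular k B := fun L _ _ hL =>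
  haveI := h L hL
  IsRegularRing.of_ringEquiv (R := L ⊗[k] A)
    (Algebra.TensorProduct.congr (AlgEquiv.refl : L ≃ₐ[k] L) e).toRingEquiv

theorem isRegularHom_congr {S S' : Type u} [CommRing S] [CommRing S'] [Algebra R S] [Algebra R S']
    (e : S ≃ₐ[R] S') (h : CAlg.IsRegularHom R S) : CAlg.IsRegularHom R S' := by
  rw [GrothLib.GeomReg.isRegularHom_iff] at h ⊢
  haveI := h.1
  refine ⟨Module.Flat.of_linearEquiv e.symm.toLinearEquiv, fun K _ _ hK => ?_⟩
  haveI := h.2 K hK
  exact IsRegularRing.of_ringEquiv (R := K ⊗[R] S)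
    (Algebra.TensorProduct.congr (AlgEquiv.refl : K ≃ₐ[R] K) e).toRingEquiv

/-- Over a field, regular maps are the Noetherian geometrically regular algebras. -/
theorem isRegularHom_of_geomReg {κ : Type u} [Field κ] {S : Type u} [CommRing S] [Algebra κ S]
    [IsNoetherianRing S] (h : CAlg.IsGeometricallyRegular κ S) : CAlg.IsRegularHom κ S := by
  refine ⟨inferInstance, fun p hp => ?_⟩
  haveI : p.IsMaximal := (Ideal.eq_bot_or_top p).elim
    (fun h0 => h0 ▸ Ideal.bot_isMaximal) (fun h1 => absurd h1 hp.ne_top)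
  let σ : κ ≃ₐ[κ] p.ResidueField := AlgEquiv.ofBijective (Algebra.ofId κ p.ResidueField)
    ⟨(algebraMap κ p.ResidueField).injective, Ideal.algebraMap_residueField_surjective p⟩
  exact transfer σ ⟨isNoetherianRing_of_ringEquiv S (Algebra.TensorProduct.lid κ S).symm.toRingEquiv,
    geomReg_congr (Algebra.TensorProduct.lid κ S).symm h⟩

theorem geomReg_of_isRegularHom {κ : Type u} [Field κ] {S : Type u} [CommRing S] [Algebra κ S]
    (h : CAlg.IsRegularHom κ S) : CAlg.IsGeometricallyRegular κ S := fun L _ _ hL =>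
  (GrothLib.GeomReg.isRegularHom_iff.1 h).2 L inferInstance

end algebra

theorem isPullback_cancel_mono {C : Type*} [Category C] {P A B Z Z' : C} {a : P ⟶ A} {b : P ⟶ B}
    {g : A ⟶ Z} {h : B ⟶ Z} {i : Z ⟶ Z'} [Mono i] (H : IsPullback a b (g ≫ i) (h ≫ i)) :
    IsPullback a b g h := by
  have w : a ≫ g = b ≫ h := by rw [← cancel_mono i, Category.assoc, Category.assoc, H.w]
  exact IsPullback.of_isLimit' ⟨w⟩ (PullbackCone.IsLimit.mk _
    (fun s => H.lift s.fst s.snd (by rw [← Category.assoc, s.condition, Category.assoc]))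
    (fun s => H.lift_fst _ _ _) (fun s => H.lift_snd _ _ _)
    (fun s m h1 h2 => H.hom_ext (by rw [H.lift_fst]; exact h1) (by rw [H.lift_snd]; exact h2)))

variable {X Y : Scheme.{u}} (f : X ⟶ Y)

/-- The `κ(y)`-algebra structure on the functions of an open of the fibre. -/
noncomputable abbrev fibAlg (y : Y) (W : (f.fiber y).Opens) :
    Algebra ↑(Y.residueField y) ↑Γ(f.fiber y, W) :=
  ((Scheme.ΓSpecIso (Y.residueField y)).inv ≫ (f.fiberToSpecResidueField y).appTop ≫
    (f.fiber y).presheaf.map (homOfLE le_top).op).hom.toAlgebra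

variable {U : X.Opens} {V : Y.Opens} {y : Y}

theorem isPullback_fibre (hV : IsAffineOpen V) (hUV : U ≤ f ⁻¹ᵁ V) (hy : y ∈ V) :
    IsPullback (f.fiberι y ∣_ U) ((f.fiberι y ⁻¹ᵁ U).ι ≫ f.fiberToSpecResidueField y)
      (f.resLE V U hUV) (Spec.map (Y.evaluation V y hy) ≫ hV.isoSpec.inv) := by
  have h0 := (isPullback_morphismRestrict (f.fiberι y) U).paste_vert
    (IsPullback.of_hasPullback f (Y.fromSpecResidueField y))
  have e1 : f.resLE V U hUV ≫ V.ι = U.ι ≫ f := Scheme.Hom.resLE_comp_ι f hUV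
  have e2 : (Spec.map (Y.evaluation V y hy) ≫ hV.isoSpec.inv) ≫ V.ι = Y.fromSpecResidueField y := by
    rw [Category.assoc, IsAffineOpen.isoSpec_inv_ι, Scheme.evaluation, Spec.map_comp, Category.assoc]
    exact congrArg (fun t => Spec.map (Y.residue y) ≫ t) (IsAffineOpen.fromSpecStalk_eq hV _ y hy _)
  exact isPullback_cancel_mono (i := V.ι) (by rw [e1, e2]; exact h0)

theorem isAffineOpen_fibre (hU : IsAffineOpen U) (hV : IsAffineOpen V) (hUV : U ≤ f ⁻¹ᵁ V) (hy : y ∈ V) :
    IsAffineOpen (f.fiberι y ⁻¹ᵁ U) := by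
  haveI : IsAffine U.toScheme := hU
  haveI : IsAffine V.toScheme := hV
  haveI : IsAffineHom (Spec.map (Y.evaluation V y hy) ≫ hV.isoSpec.inv) := isAffineHom_of_isAffine _
  exact IsAffine.of_isPullback (isPullback_fibre f hV hUV hy)

/-- The functions on the fibre of an affine chart. -/
theorem nonempty_fibreEquiv (hU : IsAffineOpen U) (hV : IsAffineOpen V) (hUV : U ≤ f ⁻¹ᵁ V) (hy : y ∈ V) :
    letI := (f.appLE V U hUV).hom.toAlgebra
    letI := (Y.evaluation V y hy).hom.toAlgebra
    letI := fibAlg f y (f.fiberι y ⁻¹ᵁ U)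
    Nonempty ((Y.residueField y) ⊗[Γ(Y, V)] Γ(X, U) ≃ₐ[Y.residueField y]
      Γ(f.fiber y, f.fiberι y ⁻¹ᵁ U)) := by
  letI := (f.appLE V U hUV).hom.toAlgebra
  letI := (Y.evaluation V y hy).hom.toAlgebra
  letI := fibAlg f y (f.fiberι y ⁻¹ᵁ U)
  haveI : IsAffine U.toScheme := hU
  haveI : IsAffine V.toScheme := hV
  have hpo := (isPushout_appTop_of_isPullback (isPullback_fibre f hV hUV hy)).of_iso
    (f' := f.appLE V U hUV) (g' := Y.evaluation V y hy) (inl' := (f.fiberι y).app U)
    (inr' := (Scheme.ΓSpecIso (Y.residueField y)).inv ≫ (f.fiberToSpecResidueField y).appTop ≫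
      (f.fiber y).presheaf.map (homOfLE (le_top : (f.fiberι y ⁻¹ᵁ U) ≤ ⊤)).op)
    V.topIso U.topIso (Scheme.ΓSpecIso _) (f.fiberι y ⁻¹ᵁ U).topIso
    (by simp [Scheme.Hom.appTop])
    (by simp [Scheme.Hom.comp_appTop, IsAffineOpen.isoSpec_inv_appTop])
    (by
      simp [Scheme.Hom.appTop, morphismRestrict_app, Scheme.Hom.app_eq_appLE, Scheme.Opens.topIso])
    (by
      simp [Scheme.Hom.comp_appTop, Scheme.Opens.ι_appTop, Scheme.Opens.topIso, ← Functor.map_comp])
  letI : Algebra Γ(X, U) Γ(f.fiber y, (f.fiberι y ⁻¹ᵁ U)) := ((f.fiberι y).app U).hom.toAlgebra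
  letI : Algebra Γ(Y, V) Γ(f.fiber y, (f.fiberι y ⁻¹ᵁ U)) :=
    (((f.fiberι y).app U).hom.comp (f.appLE V U hUV).hom).toAlgebra
  haveI : IsScalarTower Γ(Y, V) Γ(X, U) Γ(f.fiber y, (f.fiberι y ⁻¹ᵁ U)) := IsScalarTower.of_algebraMap_eq fun _ => rfl
  haveI : IsScalarTower Γ(Y, V) (Y.residueField y) Γ(f.fiber y, (f.fiberι y ⁻¹ᵁ U)) :=
    IsScalarTower.of_algebraMap_eq fun r => congr($(hpo.w).hom r)
  haveI := CommRingCat.isPushout_iff_isPushout.1 hpo.flip
  exact ⟨Algebra.IsPushout.equiv Γ(Y, V) (Y.residueField y) Γ(X, U) Γ(f.fiber y, (f.fiberι y ⁻¹ᵁ U))⟩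

/-- The residue field of a point in an affine open. -/
theorem nonempty_residueEquiv (hV : IsAffineOpen V) (hy : y ∈ V) :
    letI := (Y.evaluation V y hy).hom.toAlgebra
    Nonempty ((hV.primeIdealOf ⟨y, hy⟩).asIdeal.ResidueField ≃ₐ[Γ(Y, V)] Y.residueField y) := by
  letI := (Y.evaluation V y hy).hom.toAlgebra
  letI := Y.presheaf.algebra_section_stalk ⟨y, hy⟩
  haveI := hV.isLocalization_stalk ⟨y, hy⟩
  let p := (hV.primeIdealOf ⟨y, hy⟩).asIdeal
  let e : Localization.AtPrime p ≃ₐ[Γ(Y, V)] Y.presheaf.stalk y :=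
    IsLocalization.algEquiv p.primeCompl _ _
  refine ⟨AlgEquiv.ofRingEquiv (f := IsLocalRing.ResidueField.mapEquiv e.toRingEquiv) fun a => ?_⟩
  show IsLocalRing.residue _ (e (algebraMap Γ(Y, V) (Localization.AtPrime p) a)) = _
  rw [e.commutes]
  rfl

end GrothLib.RegMor10
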