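import Groth.Agent.Lib.RegMor10.Scheme
import Groth.Agent.Lib.DescElem.Basic
import Groth.Agent.Lib.Misc6.NoethFibres

/-!
# Regular morphisms and fppf base change
-/

set_option autoImplicit false
set_option linter.all false
set_option backward.isDefEq.respectTransparency false

universe u

open CategoryTheory Limits AlgebraicGeometry TensorProduct

namespace GrothLib.RegMor10

section algebra

variable {k k' : Type u} [Field k] [Field k'] [Algebra k k'] [Algebra.EssFiniteType k k']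
  {S S' : Type u} [CommRing S] [CommRing S'] [Algebra k S] [Algebra k' S']

theorem ascend (e : k' ⊗[k] S ≃ₐ[k'] S') (hN : IsNoetherianRing S) (h : CAlg.IsRegularHom k S) :
    IsNoetherianRing S' ∧ CAlg.IsRegularHom k' S' := by
  haveI : IsNoetherianRing (S ⊗[k] k') := GrothLib.Misc6.isNoetherianRing_tensor_iff.2 hN
  refine ⟨isNoetherianRing_of_ringEquiv (S ⊗[k] k')
    ((Algebra.TensorProduct.comm k S k').toRingEquiv.trans e.toRingEquiv), isRegularHom_congr e ?_⟩
  rw [GrothLib.GeomReg.isRegularHom_iff] at h ⊢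
  refine ⟨inferInstance, fun K _ _ hK => ?_⟩
  letI : Algebra k K := ((algebraMap k' K).comp (algebraMap k k')).toAlgebra
  haveI : IsScalarTower k k' K := IsScalarTower.of_algebraMap_eq fun _ => rfl
  haveI := h.2 K (.comp k k' K)
  exact IsRegularRing.of_ringEquiv (R := K ⊗[k] S)
    (Algebra.TensorProduct.cancelBaseChange k k' K K S).symm.toRingEquiv

theorem descend (e : k' ⊗[k] S ≃ₐ[k'] S') (hN : IsNoetherianRing S') (h : CAlg.IsRegularHom k' S') :
    IsNoetherianRing S ∧ CAlg.IsRegularHom k S := by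
  refine ⟨GrothLib.Misc6.isNoetherianRing_tensor_iff.1 (isNoetherianRing_of_ringEquiv S'
    (e.symm.toRingEquiv.trans (Algebra.TensorProduct.comm k k' S).toRingEquiv)), ?_⟩
  have h' := isRegularHom_congr e.symm h
  rw [GrothLib.GeomReg.isRegularHom_iff] at h' ⊢
  refine ⟨inferInstance, fun K _ _ hK => ?_⟩
  haveI : Nontrivial (k' ⊗[k] K) := inferInstance
  obtain ⟨m, hm⟩ := Ideal.exists_maximal (k' ⊗[k] K)
  let L := (k' ⊗[k] K) ⧸ m
  letI : Field L := Ideal.Quotient.field m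
  haveI : Algebra.EssFiniteType k' (k' ⊗[k] K) := inferInstance
  haveI : Algebra.EssFiniteType (k' ⊗[k] K) L := inferInstance
  haveI : Algebra.EssFiniteType k' L := .comp k' (k' ⊗[k] K) L
  haveI := h'.2 L inferInstance
  haveI : IsRegularRing (L ⊗[k] S) := IsRegularRing.of_ringEquiv (R := L ⊗[k'] (k' ⊗[k] S))
    (Algebra.TensorProduct.cancelBaseChange k k' L L S).toRingEquiv
  letI : Algebra K L :=
    ((Ideal.Quotient.mk m).comp (Algebra.TensorProduct.includeRight : K →ₐ[k] k' ⊗[k] K).toRingHom).toAlgebra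
  haveI : IsScalarTower k K L := IsScalarTower.of_algebraMap_eq fun r => by
    show _ = Ideal.Quotient.mk m (Algebra.TensorProduct.includeRight (algebraMap k K r))
    rw [AlgHom.commutes]
    rfl
  haveI : IsRegularRing ((K ⊗[k] S) ⊗[K] L) := IsRegularRing.of_ringEquiv (R := L ⊗[k] S)
    ((Algebra.TensorProduct.cancelBaseChange k K L L S).symm.toRingEquiv.trans
      (Algebra.TensorProduct.comm K L (K ⊗[k] S)).toRingEquiv)
  exact GrothLib.Serre.isRegularRing_of_faithfullyFlat (K ⊗[k] S) ((K ⊗[k] S) ⊗[K] L)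

end algebra

/-- The algebra structure of the functions on an open of a scheme over an affine base. -/
noncomputable abbrev overAlg {k : CommRingCat.{u}} {F : Scheme.{u}} (p : F ⟶ Spec k) (W : F.Opens) :
    Algebra k Γ(F, W) :=
  ((Scheme.ΓSpecIso k).inv ≫ p.appTop ≫ F.presheaf.map (homOfLE le_top).op).hom.toAlgebra

theorem nonempty_baseChangeEquiv {k k' : CommRingCat.{u}} (φ : k ⟶ k') {F F' : Scheme.{u}} {π : F' ⟶ F}
    {p' : F' ⟶ Spec k'} {p : F ⟶ Spec k} (H : IsPullback π p' p (Spec.map φ))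
    {W : F.Opens} (hW : IsAffineOpen W) :
    letI := φ.hom.toAlgebra
    letI := overAlg p W
    letI := overAlg p' (π ⁻¹ᵁ W)
    IsAffineOpen (π ⁻¹ᵁ W) ∧ Nonempty (k' ⊗[k] Γ(F, W) ≃ₐ[k'] Γ(F', π ⁻¹ᵁ W)) := by
  letI := φ.hom.toAlgebra
  letI := overAlg p W
  letI := overAlg p' (π ⁻¹ᵁ W)
  haveI : IsAffine W.toScheme := hW
  have hsq : IsPullback (π ∣_ W) ((π ⁻¹ᵁ W).ι ≫ p') (W.ι ≫ p) (Spec.map φ) :=
    (isPullback_morphismRestrict π W).paste_vert H
  haveI : IsAffineHom (Spec.map φ) := isAffineHom_of_isAffine _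
  refine ⟨IsAffine.of_isPullback hsq, ?_⟩
  have hpo := (isPushout_appTop_of_isPullback hsq).of_iso
    (f' := (Scheme.ΓSpecIso k).inv ≫ p.appTop ≫ F.presheaf.map (homOfLE (le_top : W ≤ ⊤)).op) (g' := φ)
    (inl' := π.app W)
    (inr' := (Scheme.ΓSpecIso k').inv ≫ p'.appTop ≫
      F'.presheaf.map (homOfLE (le_top : π ⁻¹ᵁ W ≤ ⊤)).op)
    (Scheme.ΓSpecIso k) W.topIso (Scheme.ΓSpecIso k') (π ⁻¹ᵁ W).topIso
    (by simp [Scheme.Hom.comp_appTop, Scheme.Opens.ι_appTop, Scheme.Opens.topIso, ← Functor.map_comp])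
    (by simp)
    (by simp [Scheme.Hom.appTop, morphismRestrict_app, Scheme.Hom.app_eq_appLE, Scheme.Opens.topIso])
    (by simp [Scheme.Hom.comp_appTop, Scheme.Opens.ι_appTop, Scheme.Opens.topIso, ← Functor.map_comp])
  letI : Algebra Γ(F, W) Γ(F', π ⁻¹ᵁ W) := (π.app W).hom.toAlgebra
  letI : Algebra k Γ(F', π ⁻¹ᵁ W) := ((π.app W).hom.comp (algebraMap k Γ(F, W))).toAlgebra
  haveI : IsScalarTower k Γ(F, W) Γ(F', π ⁻¹ᵁ W) := IsScalarTower.of_algebraMap_eq fun _ => rfl
  haveI : IsScalarTower k k' Γ(F', π ⁻¹ᵁ W) := IsScalarTower.of_algebraMap_eq fun r => congr($(hpo.w).hom r)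
  haveI := CommRingCat.isPushout_iff_isPushout.1 hpo.flip
  exact ⟨Algebra.IsPushout.equiv k k' Γ(F, W) Γ(F', π ⁻¹ᵁ W)⟩

variable {X Y : Scheme.{u}} (f : X ⟶ Y)

/-- The fibre at `y` is locally Noetherian and geometrically regular. -/
def FibReg (y : Y) : Prop :=
  ∀ (W : (f.fiber y).Opens), IsAffineOpen W →
    letI := fibAlg f y W
    IsNoetherianRing Γ(f.fiber y, W) ∧ CAlg.IsRegularHom (Y.residueField y) Γ(f.fiber y, W)

theorem regCharts_iff_fibReg : RegCharts f ↔ Flat f ∧ ∀ y, FibReg f y := by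
  refine ⟨fun h => ⟨flat_of_regCharts f h, fun y W hW => isRegularHom_of_regCharts f h y hW⟩,
    fun ⟨_, h⟩ => regCharts_of_flat_of_fibres f fun y W hW => ?_⟩
  letI := fibAlg f y W
  exact ⟨(h y W hW).1, geomReg_of_isRegularHom (h y W hW).2⟩

variable {X' Y' : Scheme.{u}} {f' : X' ⟶ Y'} {g' : X' ⟶ X} {g : Y' ⟶ Y}

theorem fibReg_iff [LocallyOfFiniteType g] (hc : IsPullback g' f' f g) (y' : Y') :
    FibReg f' y' ↔ FibReg f (g y') := by
  obtain ⟨π, H⟩ : ∃ π : f'.fiber y' ⟶ f.fiber (g y'), IsPullback π (f'.fiberToSpecResidueField y')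
      (f.fiberToSpecResidueField (g y')) (Spec.map (g.residueFieldMap y')) :=
    ⟨_, isPullback_fiberToSpecResidueField_of_isPullback hc y'⟩
  letI : Algebra (Y.residueField (g y')) (Y'.residueField y') := (g.residueFieldMap y').hom.toAlgebra
  haveI : Algebra.EssFiniteType (Y.residueField (g y')) (Y'.residueField y') :=
    GrothLib.Misc6.residueFieldMap_essFiniteType g y'
  constructor
  · intro h W hW
    letI := fibAlg f (g y') W
    letI := fibAlg f' y' (π ⁻¹ᵁ W)
    obtain ⟨hW', ⟨e⟩⟩ := nonempty_baseChangeEquiv _ H hW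
    exact descend e (h _ hW').1 (h _ hW').2
  · intro h
    have hW : ∀ W : (f.fiber (g y')).Opens, IsAffineOpen W → ∃ _ : IsAffineOpen (π ⁻¹ᵁ W),
        (letI := fibAlg f' y' (π ⁻¹ᵁ W)
         IsNoetherianRing Γ(f'.fiber y', π ⁻¹ᵁ W) ∧
          CAlg.IsRegularHom (Y'.residueField y') Γ(f'.fiber y', π ⁻¹ᵁ W)) := fun W hW => by
      letI := fibAlg f (g y') W
      letI := fibAlg f' y' (π ⁻¹ᵁ W)
      obtain ⟨hW', ⟨e⟩⟩ := nonempty_baseChangeEquiv _ H hW
      exact ⟨hW', ascend e (h W hW).1 (h W hW).2⟩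
    haveI : IsLocallyNoetherian (f'.fiber y') := by
      refine isLocallyNoetherian_of_affine_cover (S := fun W : (f.fiber (g y')).affineOpens =>
        (⟨π ⁻¹ᵁ W.1, (hW W.1 W.2).1⟩ : (f'.fiber y').affineOpens)) (eq_top_iff.2 fun z _ => ?_)
        (fun W => (hW W.1 W.2).2.1)
      obtain ⟨_, ⟨W, hWa, rfl⟩, hzW, -⟩ :=
        (f.fiber (g y')).isBasis_affineOpens.exists_subset_of_mem_open (Set.mem_univ (π z)) isOpen_univ
      exact TopologicalSpace.Opens.mem_iSup.2 ⟨⟨W, hWa⟩, hzW⟩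
    intro V hV
    haveI : IsNoetherianRing Γ(f'.fiber y', V) := IsLocallyNoetherian.component_noetherian ⟨V, hV⟩
    refine ⟨‹_›, isRegularHom_affine f' hV fun z _ => ?_⟩
    obtain ⟨_, ⟨W, hWa, rfl⟩, hzW, -⟩ :=
      (f.fiber (g y')).isBasis_affineOpens.exists_subset_of_mem_open (Set.mem_univ (π z)) isOpen_univ
    exact ⟨_, (hW W hWa).1, hzW, (hW W hWa).2.2⟩

theorem flat_iff_of_isPullback [Flat g] [Surjective g] (hc : IsPullback g' f' f g) : Flat f' ↔ Flat f := by
  refine ⟨fun hf' => ?_, fun hf => MorphismProperty.of_isPullback hc hf⟩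
  haveI : Flat g' := MorphismProperty.of_isPullback hc.flip ‹Flat g›
  haveI : Surjective g' := MorphismProperty.of_isPullback hc.flip ‹Surjective g›
  haveI : Flat (g' ≫ f) := by rw [hc.w]; infer_instance
  refine Flat.of_stalkMap f fun b => ?_
  obtain ⟨a, rfl⟩ := g'.surjective b
  have h : (((g' ≫ f).stalkMap a).hom).Flat := Flat.stalkMap (g' ≫ f) a
  rw [Scheme.Hom.stalkMap_comp, CommRingCat.hom_comp] at h
  have : IsLocalHom (g'.stalkMap a).hom := g'.toLRSHom.prop a
  exact GrothLib.DescElem.ringHom_flat_of_comp _ _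
    (GrothLib.DescElem.ringHom_faithfullyFlat_of_flat _ (Flat.stalkMap g' a)) h

theorem regCharts_baseChange_iff [Flat g] [LocallyOfFiniteType g] [Surjective g]
    (hc : IsPullback g' f' f g) : RegCharts f' ↔ RegCharts f := by
  rw [regCharts_iff_fibReg, regCharts_iff_fibReg, flat_iff_of_isPullback f hc]
  refine and_congr_right fun _ => ⟨fun h y => ?_, fun h y' => (fibReg_iff f hc y').2 (h _)⟩
  obtain ⟨y', rfl⟩ := g.surjective y
  exact (fibReg_iff f hc y').1 (h y')

end GrothLib.RegMor10
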