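import Groth.Agent.Lib.RegMor10.Fibre

/-!
# Regular morphisms: the affine-local and the fibrewise description
-/

set_option autoImplicit false
set_option linter.all false
set_option backward.isDefEq.respectTransparency false

universe u

open CategoryTheory Limits AlgebraicGeometry TensorProduct

namespace GrothLib.RegMor10

variable {X Y : Scheme.{u}} (f : X ⟶ Y)

/-- All ring maps between affine charts are regular. -/
def RegCharts : Prop :=
  ∀ (U : X.Opens) (V : Y.Opens) (hU : IsAffineOpen U) (hV : IsAffineOpen V) (hUV : U ≤ f ⁻¹ᵁ V),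
    letI := (f.appLE V U hUV).hom.toAlgebra
    CAlg.IsRegularHom Γ(Y, V) Γ(X, U)

/-- Regularity over `κ(y)` of an affine open of the fibre is local. -/
theorem isRegularHom_affine {y : Y} {W : (f.fiber y).Opens} (hW : IsAffineOpen W)
    [IsNoetherianRing Γ(f.fiber y, W)]
    (h : ∀ z ∈ W, ∃ W' : (f.fiber y).Opens, IsAffineOpen W' ∧ z ∈ W' ∧
      (letI := fibAlg f y W'; CAlg.IsRegularHom (Y.residueField y) Γ(f.fiber y, W'))) :
    letI := fibAlg f y W
    CAlg.IsRegularHom (Y.residueField y) Γ(f.fiber y, W) := by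
  letI := fibAlg f y W
  refine GrothLib.GeomReg.isRegularHom_of_forall_isMaximal fun n hn => ?_
  let q : PrimeSpectrum Γ(f.fiber y, W) := ⟨n, hn.isPrime⟩
  let z := hW.fromSpec q
  have hz : z ∈ W := by
    have : z ∈ Set.range hW.fromSpec := Set.mem_range_self q
    rwa [hW.range_fromSpec] at this
  have hq : hW.primeIdealOf ⟨z, hz⟩ = q :=
    hW.fromSpec.isOpenEmbedding.injective (hW.fromSpec_primeIdealOf ⟨z, hz⟩)
  obtain ⟨W', hW', hz', h'⟩ := h z hz
  letI := fibAlg f y W'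
  letI := (f.fiber y).presheaf.algebra_section_stalk ⟨z, hz⟩
  letI := (f.fiber y).presheaf.algebra_section_stalk ⟨z, hz'⟩
  letI : Algebra (Y.residueField y) ((f.fiber y).presheaf.stalk z) :=
    ((Scheme.ΓSpecIso (Y.residueField y)).inv ≫ (f.fiberToSpecResidueField y).appTop ≫
      (f.fiber y).presheaf.germ ⊤ z trivial).hom.toAlgebra
  haveI : IsScalarTower (Y.residueField y) Γ(f.fiber y, W') ((f.fiber y).presheaf.stalk z) :=
    IsScalarTower.of_algebraMap_eq fun r =>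
      ((f.fiber y).presheaf.germ_res_apply (homOfLE (le_top : W' ≤ ⊤)) z hz' _).symm
  haveI : IsScalarTower (Y.residueField y) Γ(f.fiber y, W) ((f.fiber y).presheaf.stalk z) :=
    IsScalarTower.of_algebraMap_eq fun r =>
      ((f.fiber y).presheaf.germ_res_apply (homOfLE (le_top : W ≤ ⊤)) z hz _).symm
  haveI := hW'.isLocalization_stalk ⟨z, hz'⟩
  have h'' : CAlg.IsRegularHom (Y.residueField y) ((f.fiber y).presheaf.stalk z) :=
    GrothLib.GeomReg.isRegularHom_localization_right h' (hW'.primeIdealOf ⟨z, hz'⟩).asIdeal.primeCompl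
  haveI : IsLocalization n.primeCompl ((f.fiber y).presheaf.stalk z) := by
    have hl := hW.isLocalization_stalk ⟨z, hz⟩
    simp only [hq] at hl
    exact hl
  exact isRegularHom_congr ((IsLocalization.algEquiv n.primeCompl ((f.fiber y).presheaf.stalk z)
    (Localization.AtPrime n)).restrictScalars (Y.residueField y)) h''

/-- The fibre of a regular chart. -/
theorem isRegularHom_fibre_chart {U : X.Opens} (hU : IsAffineOpen U) {V : Y.Opens} (hV : IsAffineOpen V)
    (hUV : U ≤ f ⁻¹ᵁ V) (h : letI := (f.appLE V U hUV).hom.toAlgebra; CAlg.IsRegularHom Γ(Y, V) Γ(X, U))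
    {y : Y} (hy : y ∈ V) :
    letI := fibAlg f y (f.fiberι y ⁻¹ᵁ U)
    IsNoetherianRing Γ(f.fiber y, f.fiberι y ⁻¹ᵁ U) ∧
      CAlg.IsRegularHom (Y.residueField y) Γ(f.fiber y, f.fiberι y ⁻¹ᵁ U) := by
  letI := (f.appLE V U hUV).hom.toAlgebra
  letI := (Y.evaluation V y hy).hom.toAlgebra
  letI := fibAlg f y (f.fiberι y ⁻¹ᵁ U)
  obtain ⟨σ⟩ := nonempty_residueEquiv hV hy
  obtain ⟨e⟩ := nonempty_fibreEquiv f hU hV hUV hy
  obtain ⟨h1, h2⟩ := transfer σ (h.2 (hV.primeIdealOf ⟨y, hy⟩).asIdeal)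
  haveI := isNoetherianRing_of_ringEquiv _ e.toRingEquiv
  exact ⟨‹_›, isRegularHom_of_geomReg (geomReg_congr e h2)⟩

theorem exists_charts (y : Y) (z : f.fiber y) :
    ∃ (U : X.Opens) (V : Y.Opens), IsAffineOpen U ∧ IsAffineOpen V ∧ U ≤ f ⁻¹ᵁ V ∧ y ∈ V ∧
      z ∈ f.fiberι y ⁻¹ᵁ U := by
  obtain ⟨_, ⟨V, hV, rfl⟩, hyV, -⟩ :=
    Y.isBasis_affineOpens.exists_subset_of_mem_open (Set.mem_univ y) isOpen_univ
  have hfz : f (f.fiberι y z) = y := by
    have : f.fiberι y z ∈ f ⁻¹' {y} := f.range_fiberι y ▸ Set.mem_range_self z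
    exact this
  have hz : f.fiberι y z ∈ f ⁻¹ᵁ V := by
    show f (f.fiberι y z) ∈ V
    rw [hfz]; exact hyV
  obtain ⟨_, ⟨U, hU, rfl⟩, hzU, hUV⟩ :=
    X.isBasis_affineOpens.exists_subset_of_mem_open hz (f ⁻¹ᵁ V).2
  exact ⟨U, V, hU, hV, hUV, hyV, hzU⟩

theorem isLocallyNoetherian_fiber (h : RegCharts f) (y : Y) : IsLocallyNoetherian (f.fiber y) := by
  choose U V hU hV hUV hy hz using exists_charts f y
  exact isLocallyNoetherian_of_affine_cover (S := fun z =>
      (⟨f.fiberι y ⁻¹ᵁ U z, isAffineOpen_fibre f (hU z) (hV z) (hUV z) (hy z)⟩ : (f.fiber y).affineOpens))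
    (eq_top_iff.2 fun z _ => TopologicalSpace.Opens.mem_iSup.2 ⟨z, hz z⟩)
    fun z => (isRegularHom_fibre_chart f (hU z) (hV z) (hUV z) (h _ _ (hU z) (hV z) (hUV z)) (hy z)).1

theorem isRegularHom_of_regCharts (h : RegCharts f) (y : Y) {W : (f.fiber y).Opens} (hW : IsAffineOpen W) :
    letI := fibAlg f y W
    IsNoetherianRing Γ(f.fiber y, W) ∧ CAlg.IsRegularHom (Y.residueField y) Γ(f.fiber y, W) := by
  haveI := isLocallyNoetherian_fiber f h y
  haveI : IsNoetherianRing Γ(f.fiber y, W) := IsLocallyNoetherian.component_noetherian ⟨W, hW⟩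
  refine ⟨‹_›, isRegularHom_affine f hW fun z _ => ?_⟩
  obtain ⟨U, V, hU, hV, hUV, hy, hz⟩ := exists_charts f y z
  exact ⟨_, isAffineOpen_fibre f hU hV hUV hy, hz,
    (isRegularHom_fibre_chart f hU hV hUV (h U V hU hV hUV) hy).2⟩

theorem flat_of_regCharts (h : RegCharts f) : Flat f :=
  HasRingHomProperty.iff_appLE.2 fun U V e => (h V.1 U.1 V.2 U.2 e).1

theorem regCharts_of_flat_of_fibres [Flat f]
    (h : ∀ (y : Y) (W : (f.fiber y).Opens), IsAffineOpen W →
      letI := fibAlg f y W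
      IsNoetherianRing Γ(f.fiber y, W) ∧ CAlg.IsGeometricallyRegular (Y.residueField y) Γ(f.fiber y, W)) :
    RegCharts f := by
  intro U V hU hV hUV
  letI := (f.appLE V U hUV).hom.toAlgebra
  refine ⟨f.flat_appLE hV hU hUV, fun p hp => ?_⟩
  have key : ∀ (y : Y) (hy : y ∈ V),
      IsNoetherianRing ((hV.primeIdealOf ⟨y, hy⟩).asIdeal.Fiber Γ(X, U)) ∧
      CAlg.IsGeometricallyRegular (hV.primeIdealOf ⟨y, hy⟩).asIdeal.ResidueField
        ((hV.primeIdealOf ⟨y, hy⟩).asIdeal.Fiber Γ(X, U)) := fun y hy => by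
    letI := (Y.evaluation V y hy).hom.toAlgebra
    letI := fibAlg f y (f.fiberι y ⁻¹ᵁ U)
    obtain ⟨σ⟩ := nonempty_residueEquiv hV hy
    obtain ⟨e⟩ := nonempty_fibreEquiv f hU hV hUV hy
    obtain ⟨h1, h2⟩ := h y _ (isAffineOpen_fibre f hU hV hUV hy)
    exact transfer σ.symm ⟨(haveI := h1; isNoetherianRing_of_ringEquiv _ e.symm.toRingEquiv),
      geomReg_congr e.symm h2⟩
  have hy : hV.fromSpec (⟨p, hp⟩ : PrimeSpectrum Γ(Y, V)) ∈ V := by
    have : hV.fromSpec (⟨p, hp⟩ : PrimeSpectrum Γ(Y, V)) ∈ Set.range hV.fromSpec := Set.mem_range_self _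
    rwa [hV.range_fromSpec] at this
  have hq : hV.primeIdealOf ⟨_, hy⟩ = ⟨p, hp⟩ :=
    hV.fromSpec.isOpenEmbedding.injective (hV.fromSpec_primeIdealOf ⟨_, hy⟩)
  have := key _ hy
  rw [hq] at this
  exact this

theorem regCharts_iff : RegCharts f ↔ Flat f ∧ ∀ (y : Y) (W : (f.fiber y).Opens), IsAffineOpen W →
    letI := fibAlg f y W
    IsNoetherianRing Γ(f.fiber y, W) ∧ CAlg.IsGeometricallyRegular (Y.residueField y) Γ(f.fiber y, W) :=
  ⟨fun h => ⟨flat_of_regCharts f h, fun y W hW => by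
      letI := fibAlg f y W
      exact ⟨(isRegularHom_of_regCharts f h y hW).1,
        geomReg_of_isRegularHom (isRegularHom_of_regCharts f h y hW).2⟩⟩,
    fun ⟨_, h⟩ => regCharts_of_flat_of_fibres f h⟩

end GrothLib.RegMor10
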